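import Mathlib
import Cfsg.Agent.Lib.Comput.Check3
import Cfsg.Agent.Lib.LieModel.Sz8.P.Data

/-! generated by tools/cgt -/

set_option autoImplicit false
set_option maxRecDepth 100000
set_option Elab.async false

namespace CfsgLib.LieModel.Sz8.P

open CfsgLib.Comput

def R2_0 : RepC := ⟨9, 1, [],
  []⟩
def R2_1 : RepC := ⟨10, 1, [],
  []⟩
def R2_2 : RepC := ⟨0x909, 1, [],
  []⟩
def R2_3 : RepC := ⟨0xa0a, 1, [],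
  []⟩
def R2_4 : RepC := ⟨0x90909, 1, [],
  []⟩
def R2_5 : RepC := ⟨0xa0a0a, 1, [],
  []⟩
def S2_0 : GenC := ⟨10, [],
  [(0, 0, 0, 2, 0), (0, 1, 0, 0, 0), (0, 2, 0, 4, 0), (0, 3, 0, 1, 0), (0, 4, 0, 6, 0), (0, 5, 0, 3, 0), (0, 6, 0, 5, 0)], 0⟩
def L2 : Level := ⟨0x0, 0x300, [], 1, 2, 0, 7, [R2_0, R2_1, R2_2, R2_3, R2_4, R2_5], [S2_0]⟩
def X2 : Ext := [(8, 10, 0)]

def R1_0 : RepC := ⟨5, 7, [],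
  []⟩
def R1_1 : RepC := ⟨6, 7, [],
  []⟩
def R1_2 : RepC := ⟨7, 7, [],
  []⟩
def R1_3 : RepC := ⟨8, 7, [],
  []⟩
def R1_4 : RepC := ⟨0x505, 7, [],
  []⟩
def R1_5 : RepC := ⟨0x805, 7, [],
  []⟩
def R1_6 : RepC := ⟨0x606, 7, [],
  []⟩
def R1_7 : RepC := ⟨0x607, 7, [],
  []⟩
def R1_8 : RepC := ⟨0x60906, 7, [],
  []⟩
def S1_0 : GenC := ⟨6, [],
  [(0, 0, 0, 2, 0), (0, 1, 0, 0, 0), (0, 2, 0, 7, 0), (0, 3, 0, 8, 0), (0, 4, 10, 3, 0xa0a), (0, 5, 0, 1, 0), (0x909, 4, 9, 1, 0xa0a), (0, 6, 9, 2, 10), (0, 7, 0xa0a0a, 3, 10), (0xa0a, 2, 0x90909, 7, 0x909), (0xa0a0a, 5, 0x90909, 9, 0x90909), (9, 7, 0, 3, 0xa0a0a), (0, 8, 0xa0a0a, 5, 0), (0xa0a0a, 1, 0, 4, 0xa0a), (10, 3, 9, 5, 0x90909), (0x90909, 5, 0xa0a0a, 4, 9), (9, 4, 0, 5, 0xa0a0a), (10, 7, 0x909, 9, 0x909), (10, 9, 0x909, 4, 0x90909), (9,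 1, 0xa0a, 4, 0xa0a0a), (0x909, 5, 0, 6, 0x90909), (9, 2, 0, 9, 0), (0xa0a0a, 4, 9, 7, 0x90909), (0xa0a0a, 3, 9, 4, 0xa0a0a), (9, 6, 0xa0a, 2, 0x90909), (0x90909, 7, 0xa0a0a, 1, 0x909), (0xa0a0a, 9, 0xa0a, 7, 10), (0x90909, 9, 0x90909, 5, 0x90909), (0x90909, 1, 0x909, 3, 0), (0x90909, 2, 0x909, 5, 0xa0a0a), (0xa0a0a, 8, 0xa0a0a, 9, 0), (0, 9, 0x90909, 8, 0x909), (0x90909, 6, 0xa0a, 6, 0xa0a0a), (9, 5, 9, 6, 9), (0xa0a, 8, 10, 6, 0xa0a), (0xa0a, 9, 0x90909, 6, 0), (0x909, 7, 10, 7, 0x909), (0x909, 9, 9, 3, 0xa0a), (0xa0a0a, 6, 10, 9, 0xa0a), (10, 2, 0xa0a, 3, 0xa0a), (0xa0a, 4, 0x909, 8, 9), (0xa0a0a, 7, 0x909, 7, 9), (0x90909, 3, 10, 8, 0xa0a0a), (0xa0a, 3, 0x90909, 4, 0x90909), (0x909, 1, 0xa0a, 1, 0x90909), (9, 9, 10, 1, 10), (9, 3, 0xa0a, 8, 0x90909), (10, 1, 0x90909, 3, 0x909),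 (0xa0a, 7, 0xa0a, 5, 0x909), (0xa0a, 1, 0xa0a0a, 2, 0x909), (0x909, 6, 0x90909, 1, 0xa0a0a), (0x909, 3, 0xa0a, 9, 0xa0a), (0x909, 2, 0x90909, 2, 0xa0a), (10, 5, 0x909, 6, 0xa0a), (0xa0a0a, 2, 0xa0a0a, 8, 0xa0a), (0x90909, 8, 0x909, 2, 9), (0x909, 8, 10, 4, 0x90909), (0xa0a, 6, 10, 5, 0x90909), (10, 6, 0xa0a0a, 7, 0x90909), (10, 4, 0xa0a0a, 6, 0), (9, 8, 9, 8, 10), (10, 8, 10, 2, 0), (0x90909, 4, 9, 9, 9), (0xa0a, 5, 0x909, 1, 0x90909)], 0⟩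
def L1 : Level := ⟨0x300, 0x3f0, [10], 7, 1, 0, 64, [R1_0, R1_1, R1_2, R1_3, R1_4, R1_5, R1_6, R1_7, R1_8], [S1_0]⟩
def X1 : Ext := [(4, 6, 0), (6, 0, 0x6090606090909), (7, 7, 0)]

def R0_0 : RepC := ⟨0x60902, 64, [(0xa0a, 0x8090909)],
  [(3, 6, [1])]⟩
def S0_0 : GenC := ⟨2, [(0x6060609, 0x50a08090909)],
  [(0, 0, 0xa05, 1, 0), (0xa070906, 1, 0, 0, 0x70a0609), (0, 1, 0x80a06, 1, 0x8080a0a), (0x808, 1, 0x805, 1, 0x606060a0a0a), (0x505, 1, 0x60906, 1, 0xa070a), (7, 1, 0x90505, 1, 0x706), (6, 1, 0x606, 1, 0x7060a0a), (0xa07, 1, 0x50805, 1, 0x90809), (0x706, 1, 0x60806, 1, 0xa050909), (5, 1, 0x80905, 1, 0xa06090909), (0x607, 1, 0x808, 1, 0x709060a0a0a)], 6⟩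
def L0 : Level := ⟨0x3f0, 0x3ff, [6, 10], 448, 0, 0, 65, [R0_0], [S0_0]⟩
def X0 : Ext := [(0, 2, 0), (2, 0, 0x8020a05050a), (3, 3, 0)]

def top : List ℕ := [1, 3]
def gs : List ℕ := [2, 6, 10]
def XD : Ext := [(1, 1, 0), (3, 3, 0), (4, 0, 0x3010303010104010301), (5, 5, 0), (6, 0, 0x303030101), (7, 7, 0), (8, 0, 0x6080608060808080507), (9, 9, 0)]
def MX : Level.MaxC := [[(0xa05, [0])]]
def NC : NclD := ⟨0x60301, 13, [(0, [0x906, 0x402020706070a]), (2, [0x30705, 0x2030809080a0a])]⟩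

/-- all the equations of the certificate -/
structure Eqs {G : Type*} [Group G] (g : ℕ → G) : Prop where
  l2 : AllHold g L2.eqns
  x2 : AllHold g X2.eqns
  l1 : AllHold g L1.eqns
  x1 : AllHold g X1.eqns
  l0 : AllHold g L0.eqns
  x0 : AllHold g X0.eqns
  xd : AllHold g XD.eqns
  mx : AllHold g (L0.maxEqns MX)
  nc : AllHold g NC.eqns

end CfsgLib.LieModel.Sz8.P
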